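import Mathlib
import Groth.Prelude.Def_DRing4

set_option autoImplicit false
universe u
open CategoryTheory CategoryTheory.Limits CochainComplex CochainComplex.HomComplex

attribute [local instance] HasDerivedCategory.standard

namespace Helper5.RHomK

variable {A : Type u} [CommRing A]

/-- postcomposition with a cochain of degree `-1` -/
noncomputable def postHLin (K : DRing.Cx A) {L L' : DRing.Cx A} (H : Cochain L L' (-1))
    (p q : ℤ) (hpq : p + (-1) = q) : Cochain K L p →ₗ[A] Cochain K L' q where
  toFun z := z.comp H hpq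
  map_add' z z' := by simp
  map_smul' a z := by simp

/-- the cochain of degree `-1` between Hom complexes induced by a cochain of degree `-1` -/
noncomputable def postHCochain (K : DRing.Cx A) {L L' : DRing.Cx A} (H : Cochain L L' (-1)) :
    Cochain (DRing.homCx K L) (DRing.homCx K L') (-1) :=
  Cochain.mk (fun p q hpq => ModuleCat.ofHom (postHLin K H p q hpq))

theorem postHCochain_spec (K : DRing.Cx A) {L L' : DRing.Cx A} (f g : L ⟶ L')
    (H : Cochain L L' (-1)) (hH : Cochain.ofHom f = δ (-1) 0 H + Cochain.ofHom g) :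
    Cochain.ofHom (DRing.homCxMap K f) =
      δ (-1) 0 (postHCochain K H) + Cochain.ofHom (DRing.homCxMap K g) := by
  refine Cochain.ext₀ _ _ (fun p => ?_)
  rw [Cochain.add_v, Cochain.ofHom_v, Cochain.ofHom_v,
    δ_v (-1) 0 (by omega) (postHCochain K H) p p (add_zero p) (p - 1) (p + 1) (by omega) rfl]
  apply ModuleCat.hom_ext
  apply LinearMap.ext
  intro (z : Cochain K L p)
  have e1 : ((DRing.homCxMap K f).f p).hom z = z.comp (Cochain.ofHom f) (add_zero p) := rfl
  have e2 : ((DRing.homCxMap K g).f p).hom z = z.comp (Cochain.ofHom g) (add_zero p) := rfl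
  rw [ModuleCat.hom_add, ModuleCat.hom_add, LinearMap.add_apply, LinearMap.add_apply, e1, e2, hH,
    Cochain.comp_add]
  rw [Int.negOnePow_zero, one_smul]
  congr 1
  symm
  change ((δ (p - 1) p (z.comp H (by omega)) +
    (δ p (p + 1) z).comp H (by omega) : Cochain K L' p)) = _
  rw [δ_comp z H (show p + (-1 : ℤ) = p - 1 by omega) (p + 1) 0 p (by omega) rfl (by omega)]
  simp only [Int.negOnePow_neg, Int.negOnePow_one, Units.neg_smul, one_smul]
  abel

/-- homotopic maps induce homotopic maps on Hom complexes (second variable) -/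
noncomputable def homCxPostHomotopy (K : DRing.Cx A) {L L' : DRing.Cx A} {f g : L ⟶ L'}
    (h : Homotopy f g) : Homotopy (DRing.homCxMap K f) (DRing.homCxMap K g) :=
  (Cochain.equivHomotopy _ _).symm
    ⟨postHCochain K (Cochain.equivHomotopy f g h).1,
      postHCochain_spec K f g _ (Cochain.equivHomotopy f g h).2⟩

theorem homCxQ_map_eq_of_homotopy (K : DRing.Cx A) ⦃L L' : DRing.Cx A⦄ (f g : L ⟶ L')
    (h : Homotopy f g) : (DRing.homCxQ K).map f = (DRing.homCxQ K).map g := by
  have h1 : (HomotopyCategory.quotient _ _).map (DRing.homCxMap K f) =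
      (HomotopyCategory.quotient _ _).map (DRing.homCxMap K g) :=
    HomotopyCategory.eq_of_homotopy _ _ (homCxPostHomotopy K h)
  change DerivedCategory.Qh.map ((HomotopyCategory.quotient _ _).map (DRing.homCxMap K f)) =
    DerivedCategory.Qh.map ((HomotopyCategory.quotient _ _).map (DRing.homCxMap K g))
  rw [h1]

end Helper5.RHomK
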