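import Mathlib
import Groth.Prelude.Def_DRing4
import Groth.Prelude.Def_KFlatSite
import Groth.Agent.Lib.Helper5.KInj.DerivedQ
import Groth.Agent.Lib.Helper5.RHomK.PostHtpy
import Groth.Agent.Lib.Helper5.HomCx.Uncurry

set_option autoImplicit false
universe u
open CategoryTheory CategoryTheory.Limits CochainComplex CochainComplex.HomComplex MonoidalCategory

attribute [local instance] HasDerivedCategory.standard

namespace Helper5.RHomK

open Groth.Agent.Lib.Helper5.HomCx

variable {A : Type u} [CommRing A]

theorem hasKInjRes_moduleCat : Helper5.KInj.HasKInjRes (ModuleCat.{u} A) :=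
  Helper5.KInj.hasKInjRes_of_exact_products

/-- the unit of `RHom(K, -)` is an isomorphism at K-injective complexes -/
theorem isIso_unit_of_isKInjective (K : DRing.Cx A) [DRing.HasRHomCx K] (I : DRing.Cx A)
    [I.IsKInjective] :
    IsIso (((DRing.homCxQ K).totalRightDerivedUnit DerivedCategory.Q
      (HomologicalComplex.quasiIso (ModuleCat.{u} A) (ComplexShape.up ℤ))).app I) :=
  Helper5.KInj.isIso_app_of_isKInjectiveQ (DRing.homCxQ K) (homCxQ_map_eq_of_homotopy K)
    hasKInjRes_moduleCat (DRing.RHomCx K) _ I

/-- `RHom(K, Q I) ≅ Q (Hom•(K, I))` for K-injective `I` -/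
noncomputable def rhomIso (K : DRing.Cx A) [DRing.HasRHomCx K] (I : DRing.Cx A)
    [I.IsKInjective] :
    (DRing.RHomCx K).obj (DerivedCategory.Q.obj I) ≅ DerivedCategory.Q.obj (DRing.homCx K I) :=
  haveI := isIso_unit_of_isKInjective K I
  (asIso (((DRing.homCxQ K).totalRightDerivedUnit DerivedCategory.Q
      (HomologicalComplex.quasiIso (ModuleCat.{u} A) (ComplexShape.up ℤ))).app I)).symm

/-- `Hom•(P, I)` is K-injective when `P` is K-flat and `I` is K-injective -/
theorem isKInjective_homCx (P I : DRing.Cx A) (hP : DRing.IsKFlat A P) [I.IsKInjective] :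
    (DRing.homCx P I).IsKInjective where
  nonempty_homotopy_zero {M} f hM := by
    have hMP : (M ⊗ P).Acyclic := by
      intro n
      rw [HomologicalComplex.exactAt_iff_isZero_homology]
      exact hP M (fun i => (HomologicalComplex.exactAt_iff_isZero_homology _ _).1 (hM i)) n
    have H := IsKInjective.homotopyZero (uncurry f) hMP
    have H' := curryHomotopy H
    rw [curry_uncurry] at H'
    have h0 : curry (0 : M ⊗ P ⟶ I) = 0 := by
      apply Cochain.ofHom_injective
      rw [ofHom_curry, Cochain.ofHom_zero, Cochain.ofHom_zero, cur_zero]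
    rw [h0] at H'
    exact ⟨H'⟩

end Helper5.RHomK
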