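import Mathlib

set_option autoImplicit false
universe u
open CategoryTheory MonoidalCategory TensorProduct

namespace Helper5.RHomK

variable {A : Type u} [CommRing A]

instance isLocalization_away_tensor (f g : A) :
    IsLocalization.Away (f * g) (Localization.Away f ⊗[A] Localization.Away g) := by
  haveI h1 : IsLocalization (Algebra.algebraMapSubmonoid (Localization.Away f) (Submonoid.powers g))
      (Localization.Away f ⊗[A] Localization.Away g) :=
    IsLocalization.tensor (S := Localization.Away f) (Localization.Away g) (Submonoid.powers g)
  haveI : IsLocalization.Away (algebraMap A (Localization.Away f) g)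
      (Localization.Away f ⊗[A] Localization.Away g) := by
    have : Algebra.algebraMapSubmonoid (Localization.Away f) (Submonoid.powers g) =
        Submonoid.powers (algebraMap A (Localization.Away f) g) := by
      simp [Algebra.algebraMapSubmonoid, Submonoid.map_powers]
    rw [this] at h1
    exact h1
  exact IsLocalization.Away.mul' (Localization.Away f) _ f g

/-- `A_f ⊗ A_g ≃ A_{fg}` -/
noncomputable def awayTensorEquiv (f g : A) :
    (Localization.Away f ⊗[A] Localization.Away g) ≃ₗ[A] Localization.Away (f * g) :=
  (IsLocalization.algEquiv (Submonoid.powers (f * g))
    (Localization.Away f ⊗[A] Localization.Away g) (Localization.Away (f * g))).toLinearEquiv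

/-- the same in `ModuleCat` -/
noncomputable def awayTensorIso (f g : A) :
    ModuleCat.of A (Localization.Away f) ⊗ ModuleCat.of A (Localization.Away g) ≅
      ModuleCat.of A (Localization.Away (f * g)) :=
  (awayTensorEquiv f g).toModuleIso

end Helper5.RHomK
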