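import Mathlib
import Groth.Prelude.Def_DRing4
import Groth.Prelude.Def_KFlatSite
import Groth.Agent.Lib.Helper5.KFlat.Basic

set_option autoImplicit false
universe u
open CategoryTheory CategoryTheory.Limits MonoidalCategory HomologicalComplex

namespace Helper5.RHomK

open Groth.Agent.Lib.Helper5.Misc.KFlatGen Groth.Agent.Lib.Helper5.KFlat

variable {A : Type u} [CommRing A]

/-- the complex with `M` in degree `0` -/
noncomputable abbrev S (M : ModuleCat.{u} A) : DRing.Cx A :=
  (HomologicalComplex.single (ModuleCat.{u} A) (ComplexShape.up ℤ) 0).obj M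

lemma isZero_S_X (M : ModuleCat.{u} A) (n : ℤ) (hn : n ≠ 0) : IsZero ((S M).X n) :=
  isZero_single_obj_X _ _ _ _ hn

lemma isZero_tensor_X (M N : ModuleCat.{u} A) (n : ℤ) (hn : n ≠ 0) :
    IsZero ((S M ⊗ S N).X n) := by
  haveI := isIso_ι_concentrated (T A) (S M) (S N) 0 (fun k hk => isZero_S_X N k hk) n n (add_zero n)
  have hz : IsZero (((T A).obj ((S M).X n)).obj ((S N).X 0)) :=
    ((T A).map_isZero (isZero_S_X M n hn)).obj _
  exact hz.of_iso (asIso (ιMapBifunctor (S M) (S N) (T A) (ComplexShape.up ℤ) n 0 n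
    (add_zero n))).symm

/-- the degree `0` component -/
noncomputable def singleTensorι (M N : ModuleCat.{u} A) : M ⊗ N ⟶ (S M ⊗ S N).X 0 :=
  ((singleObjXSelf (ComplexShape.up ℤ) 0 M).inv ⊗ₘ (singleObjXSelf (ComplexShape.up ℤ) 0 N).inv) ≫
    ιTensorObj (S M) (S N) 0 0 0 (add_zero 0)

instance (M N : ModuleCat.{u} A) : IsIso (singleTensorι M N) := by
  haveI : IsIso (ιTensorObj (S M) (S N) 0 0 0 (add_zero 0)) :=
    isIso_ι_concentrated (T A) (S M) (S N) 0 (fun k hk => isZero_S_X N k hk) 0 0 (add_zero 0)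
  dsimp only [singleTensorι]
  infer_instance

/-- `single (M ⊗ N) ⟶ single M ⊗ single N` -/
noncomputable def singleTensorHom (M N : ModuleCat.{u} A) : S (M ⊗ N) ⟶ S M ⊗ S N :=
  mkHomFromSingle (singleTensorι M N) (fun k _ =>
    (isZero_tensor_X M N k (by
      rintro rfl
      simp at *)).eq_of_tgt _ _)

instance (M N : ModuleCat.{u} A) : IsIso (singleTensorHom M N) := by
  haveI : ∀ n, IsIso ((singleTensorHom M N).f n) := by
    intro n
    by_cases hn : n = 0
    · subst hn
      rw [singleTensorHom, mkHomFromSingle_f]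
      infer_instance
    · have h1 : IsZero ((S (M ⊗ N)).X n) := isZero_S_X _ n hn
      have h2 := isZero_tensor_X M N n hn
      have : (singleTensorHom M N).f n = (h1.iso h2).hom := h1.eq_of_src _ _
      rw [this]
      infer_instance
  exact Hom.isIso_of_components _

/-- `single (M ⊗ N) ≅ single M ⊗ single N` -/
noncomputable def singleTensorIso (M N : ModuleCat.{u} A) : S (M ⊗ N) ≅ S M ⊗ S N :=
  asIso (singleTensorHom M N)

end Helper5.RHomK
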