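import Mathlib
import Groth.Agent.Lib.Helper5.RHomK.Basic
import Groth.Agent.Lib.Helper5.RHomK.SingleTensor
import Groth.Agent.Lib.Helper5.RHomK.AwayTensor
import Groth.Agent.Lib.Helper5.KFlat.Bdd
import Groth.Agent.Lib.Helper5.HomCx.Curry

set_option autoImplicit false
universe u
open CategoryTheory CategoryTheory.Limits CochainComplex CochainComplex.HomComplex MonoidalCategory

attribute [local instance] HasDerivedCategory.standard

namespace Helper5.RHomK

open Groth.Agent.Lib.Helper5.HomCx Groth.Agent.Lib.Helper5.KFlat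

variable {A : Type u} [CommRing A]

/-- functoriality of `Hom•` in the first variable for isomorphisms -/
noncomputable def homCxPreIso {P P' : DRing.Cx A} (e : P ≅ P') (l : DRing.Cx A) :
    DRing.homCx P' l ≅ DRing.homCx P l where
  hom := homCxPre e.hom l
  inv := homCxPre e.inv l
  hom_inv_id := by rw [← homCxPre_comp, e.inv_hom_id, homCxPre_id]
  inv_hom_id := by rw [← homCxPre_comp, e.hom_inv_id, homCxPre_id]

/-- a flat module in degree `0` is K-flat -/
theorem isKFlat_S (M : ModuleCat.{u} A) (hM : Module.Flat A M) : DRing.IsKFlat A (S M) :=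
  isKFlat_of_concentrated (S M) 0 (fun n hn => isZero_S_X M n hn)
    (flat_of_iso (HomologicalComplex.singleObjXSelf (ComplexShape.up ℤ) 0 M).symm hM)

/-- `RHom(M, RHom(N, K)) ≅ RHom(M ⊗ N, K)` for a flat module `N` -/
theorem nonempty_rhom_rhom_iso (M N MN : ModuleCat.{u} A) (hN : Module.Flat A N)
    (e : M ⊗ N ≅ MN)
    [DRing.HasRHomCx (S M)] [DRing.HasRHomCx (S N)] [DRing.HasRHomCx (S MN)] (K : Dual.D A) :
    Nonempty ((DRing.RHomCx (S M)).obj ((DRing.RHomCx (S N)).obj K) ≅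
      (DRing.RHomCx (S MN)).obj K) := by
  obtain ⟨K', ⟨eK⟩⟩ : ∃ K' : DRing.Cx A, Nonempty (DerivedCategory.Q.obj K' ≅ K) :=
    ⟨_, ⟨DerivedCategory.Q.objObjPreimageIso K⟩⟩
  obtain ⟨J, j, hJ, hj⟩ := hasKInjRes_moduleCat K'
  haveI : IsIso (DerivedCategory.Q.map j) := by
    rw [DerivedCategory.isIso_Q_map_iff_quasiIso]
    exact hj
  let eJ : K ≅ DerivedCategory.Q.obj J := eK.symm ≪≫ asIso (DerivedCategory.Q.map j)
  haveI := isKInjective_homCx (S N) J (isKFlat_S N hN)
  let eS : S MN ≅ S M ⊗ S N :=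
    (HomologicalComplex.single (ModuleCat.{u} A) (ComplexShape.up ℤ) 0).mapIso e.symm ≪≫
      singleTensorIso M N
  exact ⟨(DRing.RHomCx (S M)).mapIso ((DRing.RHomCx (S N)).mapIso eJ ≪≫ rhomIso (S N) J) ≪≫
    rhomIso (S M) (DRing.homCx (S N) J) ≪≫
    DerivedCategory.Q.mapIso (curryIso (S M) (S N) J ≪≫ homCxPreIso eS J) ≪≫
    (rhomIso (S MN) J).symm ≪≫ (DRing.RHomCx (S MN)).mapIso eJ.symm⟩

end Helper5.RHomK
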