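import Mathlib
import Groth.Agent.Lib.Helper5.HomCx.QisSecond

set_option autoImplicit false
universe u
open CategoryTheory CategoryTheory.Limits CochainComplex CochainComplex.HomComplex
attribute [local instance] HasDerivedCategory.standard

namespace Helper5.RHomK

open Groth.Agent.Lib.Helper5.HomCx

variable {A : Type u} [CommRing A]

/-- the cone of `Hom•(u, I)` is acyclic when `I` is K-injective and `u` is a quasi-isomorphism -/
theorem acyclic_cone_homCxPre (I : DRing.Cx A) [I.IsKInjective] {P E : DRing.Cx A} (u : P ⟶ E)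
    (hu : QuasiIso u) : (mappingCone (homCxPre u I)).Acyclic := by
  have hC : (mappingCone u).Acyclic :=
    (Groth.Agent.Helper5.FlatAcyc.quasiIso_iff_acyclic_cone u).1 hu
  intro i
  rw [Groth.Agent.Helper5.ConeEl.exactAt_cone_iff (homCxPre u I) (i - 1) i (i + 1) (i + 1 + 1)
    (by omega) rfl rfl]
  intro (f : Cochain E I (i + 1)) (g : Cochain P I i) hf hg
  have hf' : δ (i + 1) (i + 1 + 1) f = 0 := hf
  have hg' : (Cochain.ofHom u).comp f (zero_add (i + 1)) + δ i (i + 1) g = 0 := hg
  let w : Cochain (mappingCone u) I (i + 1) :=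
    mappingCone.descCochain u ((i + 1 + 1).negOnePow • g) f rfl
  have hw : δ (i + 1) (i + 1 + 1) w = 0 := by
    rw [mappingCone.δ_descCochain u _ f rfl (i + 1 + 1) rfl, hf', Cochain.comp_zero, add_zero,
      δ_units_smul, ← smul_add, add_comm (δ i (i + 1) g), hg', smul_zero, Cochain.comp_zero]
  obtain ⟨v, hv⟩ := IsKInjective.eq_δ_of_cocycle (Cocycle.mk w (i + 1 + 1) rfl hw) hC i rfl
  let α' : Cochain P I (i - 1) := (mappingCone.inl u).comp v (by omega)
  let β' : Cochain E I i := (Cochain.ofHom (mappingCone.inr u)).comp v (zero_add i)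
  have hv' : v = mappingCone.descCochain u α' β' (by omega) := by
    rw [mappingCone.ext_cochain_from_iff u (i - 1) i (by omega)]
    exact ⟨(mappingCone.inl_descCochain u α' β' (by omega)).symm,
      (mappingCone.inr_descCochain u α' β' (by omega)).symm⟩
  have h2 : δ i (i + 1) v = mappingCone.descCochain u
      (δ (i - 1) i α' + (i + 1).negOnePow • (Cochain.ofHom u).comp β' (zero_add i))
      (δ i (i + 1) β') rfl := by
    conv_lhs => rw [hv', mappingCone.δ_descCochain u α' β' (by omega) (i + 1) rfl]
    rfl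
  have hv2 : mappingCone.descCochain u
      (δ (i - 1) i α' + (i + 1).negOnePow • (Cochain.ofHom u).comp β' (zero_add i))
      (δ i (i + 1) β') rfl = w := by
    rw [← h2]
    exact hv
  have e1 := congrArg (fun c => (mappingCone.inl u).comp c (show (-1 : ℤ) + (i + 1) = i by omega)) hv2
  have e2 := congrArg (fun c => (Cochain.ofHom (mappingCone.inr u)).comp c (zero_add (i + 1))) hv2
  dsimp only [w] at e1 e2
  rw [mappingCone.inl_descCochain, mappingCone.inl_descCochain] at e1
  rw [mappingCone.inr_descCochain, mappingCone.inr_descCochain] at e2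
  refine ⟨-β', (i + 1 + 1).negOnePow • α', ?_, ?_⟩
  · change -(δ i (i + 1) (-β')) = f
    rw [δ_neg, neg_neg]
    exact e2
  · change (Cochain.ofHom u).comp (-β') (zero_add i) +
      δ (i - 1) i ((i + 1 + 1).negOnePow • α') = g
    rw [δ_units_smul, Cochain.comp_neg]
    have e3 := congrArg (fun c => (i + 1 + 1).negOnePow • c) e1
    rw [smul_smul, Int.units_mul_self, one_smul, smul_add, smul_smul] at e3
    rw [← e3]
    have : (i + 1 + 1).negOnePow * (i + 1).negOnePow = -1 := by
      rw [Int.negOnePow_succ (i + 1)]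
      simp
    rw [this, Units.neg_smul, one_smul]
    abel

theorem quasiIso_homCxPre (I : DRing.Cx A) [I.IsKInjective] {P E : DRing.Cx A} (u : P ⟶ E)
    (hu : QuasiIso u) : QuasiIso (homCxPre u I) :=
  (Groth.Agent.Helper5.FlatAcyc.quasiIso_iff_acyclic_cone _).2 (acyclic_cone_homCxPre I u hu)

end Helper5.RHomK
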