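import Mathlib
import Groth.Agent.Lib.Helper5.RHomK.Basic
import Groth.Agent.Lib.Helper5.DComp.Exist

set_option autoImplicit false
universe u
open CategoryTheory CategoryTheory.Limits CochainComplex CochainComplex.HomComplex

attribute [local instance] HasDerivedCategory.standard

namespace Helper5.RHomK

open Helper5.DComp Helper5.DMod DerivedCategory

variable {A : Type u} [CommRing A]

/-- converse of `quasiIso_PhiE` -/
theorem DC_of_quasiIso_PhiE (f : A) (Y : CochainComplex (ModuleCat.{u} A) ℤ)
    (hq : QuasiIso (PhiE f Y)) (n : ℤ) : DC f (Y.homology n) := by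
  have h1 : IsIso (HomologicalComplex.homologyMap (PhiE f Y) n) := by
    rw [← quasiIsoAt_iff_isIso_homologyMap]
    infer_instance
  have h2 : HomologicalComplex.homologyMap (PhiE f Y) n ≫ (hP Y n).hom =
      (hP Y n).hom ≫ (𝟙 _ - f • Lf.app (Y.homology n)) := by
    rw [PhiE, HomologicalComplex.homologyMap_sub, HomologicalComplex.homologyMap_id,
      homologyMap_smul', Preadditive.sub_comp, Preadditive.comp_sub, Category.id_comp,
      Category.comp_id, Linear.smul_comp, Linear.comp_smul]
    congr 2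
    exact hP_naturality_nat Y Lf n
  have h3 : IsIso (𝟙 ((powF (A := A)).obj (Y.homology n)) - f • Lf.app (Y.homology n)) := by
    have : (𝟙 ((powF (A := A)).obj (Y.homology n)) - f • Lf.app (Y.homology n)) =
        (hP Y n).inv ≫ HomologicalComplex.homologyMap (PhiE f Y) n ≫ (hP Y n).hom := by
      rw [h2, Iso.inv_hom_id_assoc]
    rw [this]
    infer_instance
  have h4 := (ConcreteCategory.isIso_iff_bijective _).mp h3
  unfold DC
  have h5 : (Phi f (Y.homology n) : (ℕ → Y.homology n) → (ℕ → Y.homology n)) =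
      (ConcreteCategory.hom (𝟙 ((powF (A := A)).obj (Y.homology n)) -
        f • Lf.app (Y.homology n)) : (ℕ → Y.homology n) → (ℕ → Y.homology n)) := by
    funext y k
    rfl
  rw [h5]
  exact h4

/-- `E[[t]]` is K-injective when `E` is -/
instance isKInjective_PE (J : CochainComplex (ModuleCat.{u} A) ℤ) [J.IsKInjective] :
    (PE J).IsKInjective where
  nonempty_homotopy_zero {M} φ hM := by
    have h1 : φ = piLift (fun i => φ ≫ prE J i) := by
      ext n x
      rfl
    rw [h1]
    exact ⟨piHomotopy _ (fun i => IsKInjective.homotopyZero (φ ≫ prE J i) hM)⟩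

lemma LE_prE (M : CochainComplex (ModuleCat.{u} A) ℤ) (i : ℕ) :
    LE M ≫ prE M i = prE M (i + 1) := by
  ext n x
  rfl

/-- cochains into `M[[t]]` are sequences of cochains into `M` -/
noncomputable def cochainPEEquiv (K M : DRing.Cx A) (n : ℤ) :
    Cochain K (PE M) n ≃ₗ[A] (ℕ → Cochain K M n) where
  toFun z i := z.comp (Cochain.ofHom (prE M i)) (add_zero n)
  invFun γ := Cochain.mk (fun p q hpq =>
    ModuleCat.ofHom (LinearMap.pi (fun i => ((γ i).v p q hpq).hom)))
  left_inv z := by
    ext p q hpq x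
    funext i
    simp only [Cochain.mk_v, Cochain.comp_zero_cochain_v, Cochain.ofHom_v]
    rfl
  right_inv γ := by
    funext i
    ext p q hpq x
    simp only [Cochain.comp_zero_cochain_v, Cochain.ofHom_v, Cochain.mk_v]
    rfl
  map_add' z z' := by
    funext i
    simp
  map_smul' a z := by
    funext i
    simp

/-- `Hom•(K, M[[t]]) ≅ Hom•(K, M)[[t]]` -/
noncomputable def homCxPEIso (K M : DRing.Cx A) : DRing.homCx K (PE M) ≅ PE (DRing.homCx K M) :=
  HomologicalComplex.Hom.isoOfComponents (fun n => (cochainPEEquiv K M n).toModuleIso) (by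
    intro n m _
    ext (z : Cochain K (PE M) n) : 2
    funext i
    change (δ n m (z.comp (Cochain.ofHom (prE M i)) (add_zero n)) : Cochain K M m) =
      (δ n m z).comp (Cochain.ofHom (prE M i)) (add_zero m)
    exact δ_comp_ofHom z (prE M i) m)

lemma homCxPEIso_LE (K M : DRing.Cx A) :
    DRing.homCxMap K (LE M) ≫ (homCxPEIso K M).hom =
      (homCxPEIso K M).hom ≫ LE (DRing.homCx K M) := by
  ext n (z : Cochain K (PE M) n) : 3
  funext i
  change (z.comp (Cochain.ofHom (LE M)) (add_zero n)).comp (Cochain.ofHom (prE M i)) (add_zero n) =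
    z.comp (Cochain.ofHom (prE M (i + 1))) (add_zero n)
  rw [Cochain.comp_assoc_of_third_is_zero_cochain, ← Cochain.ofHom_comp, LE_prE]

lemma homCxMap_id (K L : DRing.Cx A) : DRing.homCxMap K (𝟙 L) = 𝟙 _ :=
  (DRing.homCxFunctor K).map_id L

lemma homCxMap_comp (K : DRing.Cx A) {L L' L'' : DRing.Cx A} (φ : L ⟶ L') (ψ : L' ⟶ L'') :
    DRing.homCxMap K (φ ≫ ψ) = DRing.homCxMap K φ ≫ DRing.homCxMap K ψ :=
  (DRing.homCxFunctor K).map_comp φ ψ

lemma homCxMap_sub (K : DRing.Cx A) {L L' : DRing.Cx A} (φ ψ : L ⟶ L') :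
    DRing.homCxMap K (φ - ψ) = DRing.homCxMap K φ - DRing.homCxMap K ψ := by
  ext n (z : Cochain K L n) : 3
  change z.comp (Cochain.ofHom (φ - ψ)) (add_zero n) =
    z.comp (Cochain.ofHom φ) (add_zero n) - z.comp (Cochain.ofHom ψ) (add_zero n)
  rw [Cochain.ofHom_sub, Cochain.comp_sub]

lemma homCxMap_smul (K : DRing.Cx A) {L L' : DRing.Cx A} (a : A) (φ : L ⟶ L') :
    DRing.homCxMap K (a • φ) = a • DRing.homCxMap K φ := by
  ext n (z : Cochain K L n) : 3
  change z.comp (Cochain.ofHom (a • φ)) (add_zero n) =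
    a • z.comp (Cochain.ofHom φ) (add_zero n)
  have : Cochain.ofHom (a • φ) = a • Cochain.ofHom φ := by
    ext p
    simp
  rw [this, Cochain.comp_smul]

/-- `Hom•(K, -)` preserves homotopy equivalences -/
noncomputable def homCxMapHomotopyEquiv (K : DRing.Cx A) {L L' : DRing.Cx A}
    (e : HomotopyEquiv L L') : HomotopyEquiv (DRing.homCx K L) (DRing.homCx K L') where
  hom := DRing.homCxMap K e.hom
  inv := DRing.homCxMap K e.inv
  homotopyHomInvId := by
    have h := homCxPostHomotopy K e.homotopyHomInvId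
    rw [homCxMap_comp, homCxMap_id] at h
    exact h
  homotopyInvHomId := by
    have h := homCxPostHomotopy K e.homotopyInvHomId
    rw [homCxMap_comp, homCxMap_id] at h
    exact h

/-- `Hom•(K, -)` preserves quasi-isomorphisms between K-injective complexes -/
theorem quasiIso_homCxMap_of_isKInjective (K : DRing.Cx A) {L L' : DRing.Cx A}
    [L.IsKInjective] [L'.IsKInjective] (φ : L ⟶ L') (hφ : QuasiIso φ) :
    QuasiIso (DRing.homCxMap K φ) := by
  obtain ⟨e, he⟩ := (CochainComplex.IsKInjective.quasiIso_iff φ).1 hφ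
  rw [← he]
  exact (homCxMapHomotopyEquiv K e).quasiIso_hom

/-- `RHom(K, M)` is derived complete when `M` is -/
theorem idc_homCx (I : Ideal A) (K M : DRing.Cx A) [M.IsKInjective]
    (h : DRing.IsDerivedComplete I (Q.obj M)) :
    DRing.IsDerivedComplete I (Q.obj (DRing.homCx K M)) := by
  rw [idc_Q_iff] at h ⊢
  intro g hg n
  apply DC_of_quasiIso_PhiE
  have hq : QuasiIso (PhiE g M) := quasiIso_PhiE g M (h g hg)
  have hq' := quasiIso_homCxMap_of_isKInjective K (PhiE g M) hq
  have hc : DRing.homCxMap K (PhiE g M) ≫ (homCxPEIso K M).hom =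
      (homCxPEIso K M).hom ≫ PhiE g (DRing.homCx K M) := by
    rw [PhiE, PhiE, homCxMap_sub, homCxMap_smul, homCxMap_id, Preadditive.sub_comp,
      Preadditive.comp_sub, Category.id_comp, Category.comp_id, Linear.smul_comp,
      Linear.comp_smul, homCxPEIso_LE]
  have : PhiE g (DRing.homCx K M) =
      (homCxPEIso K M).inv ≫ DRing.homCxMap K (PhiE g M) ≫ (homCxPEIso K M).hom := by
    rw [hc, Iso.inv_hom_id_assoc]
  rw [this]
  infer_instance

end Helper5.RHomK
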