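import Mathlib
import Groth.Agent.Lib.Helper5.HomCx.SplitSES
import Groth.Agent.Lib.Helper5.RHomK.Complete

set_option autoImplicit false
universe u
open CategoryTheory CategoryTheory.Limits CochainComplex CochainComplex.HomComplex

namespace Helper5.RHomK

open Groth.Agent.Lib.Helper5.HomCx

variable {A : Type u} [CommRing A]

theorem homCxMap_zero (K L L' : DRing.Cx A) : DRing.homCxMap K (0 : L ⟶ L') = 0 := by
  have := homCxMap_sub K (0 : L ⟶ L') 0
  rw [sub_self, sub_self] at this
  exact this

variable (S : ShortComplex (DRing.Cx A))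
  (σ : ∀ n, (S.map (HomologicalComplex.eval _ _ n)).Splitting) (K : DRing.Cx A)

include σ in
/-- the covariant Hom complex sends degreewise split short exact sequences to short exact
sequences -/
theorem shortExact_homCx₂ :
    (ShortComplex.mk (DRing.homCxMap K S.f) (DRing.homCxMap K S.g)
      (by rw [← homCxMap_comp, S.zero, homCxMap_zero])).ShortExact := by
  rw [HomologicalComplex.shortExact_iff_degreewise_shortExact]
  intro n
  refine { exact := ?_, mono_f := ?_, epi_g := ?_ }
  · rw [ShortComplex.moduleCat_exact_iff]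
    intro (z : Cochain K S.X₂ n) hz
    have hz' : z.comp (Cochain.ofHom S.g) (add_zero n) = 0 := hz
    refine ⟨(z.comp (rC S σ) (add_zero n) : Cochain K S.X₁ n), ?_⟩
    change (z.comp (rC S σ) (add_zero n)).comp (Cochain.ofHom S.f) (add_zero n) = z
    have h1 : z = z.comp (Cochain.ofHom (𝟙 S.X₂)) (add_zero n) := (Cochain.comp_id z).symm
    rw [← rC_f_add S σ, Cochain.comp_add,
      ← Cochain.comp_assoc_of_third_is_zero_cochain z (Cochain.ofHom S.g), hz',
      Cochain.zero_comp, add_zero,
      ← Cochain.comp_assoc_of_third_is_zero_cochain] at h1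
    exact h1.symm
  · rw [ModuleCat.mono_iff_injective]
    intro (z : Cochain K S.X₁ n) (z' : Cochain K S.X₁ n) hzz'
    have h : z.comp (Cochain.ofHom S.f) (add_zero n) = z'.comp (Cochain.ofHom S.f) (add_zero n) :=
      hzz'
    have h2 : (z.comp (Cochain.ofHom S.f) (add_zero n)).comp (rC S σ) (add_zero n) =
        (z'.comp (Cochain.ofHom S.f) (add_zero n)).comp (rC S σ) (add_zero n) := by rw [h]
    rw [Cochain.comp_assoc_of_third_is_zero_cochain,
      Cochain.comp_assoc_of_third_is_zero_cochain, f_rC, Cochain.comp_id, Cochain.comp_id] at h2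
    exact h2
  · rw [ModuleCat.epi_iff_surjective]
    intro (y : Cochain K S.X₃ n)
    refine ⟨(y.comp (sC S σ) (add_zero n) : Cochain K S.X₂ n), ?_⟩
    change (y.comp (sC S σ) (add_zero n)).comp (Cochain.ofHom S.g) (add_zero n) = y
    rw [Cochain.comp_assoc_of_third_is_zero_cochain, sC_g, Cochain.comp_id]

end Helper5.RHomK
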