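import Mathlib
import Groth.Agent.Lib.Helper5.RHomK.SplitSES2
import Groth.Agent.Lib.Helper5.DComp.Exist
import Groth.Agent.Lib.Helper5.DComp.Main

set_option autoImplicit false
universe u
open CategoryTheory CategoryTheory.Limits CochainComplex CochainComplex.HomComplex Pretriangulated

attribute [local instance] HasDerivedCategory.standard

namespace Helper5.RHomK

open Helper5.DComp Helper5.DMod DerivedCategory

section cone
variable {C : Type*} [Category C] [Abelian C]

theorem isKInjective_mappingCone {K L : CochainComplex C ℤ} [K.IsKInjective] [L.IsKInjective]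
    (φ : K ⟶ L) : (mappingCone φ).IsKInjective := by
  rw [isKInjective_iff_rightOrthogonal]
  exact ObjectProperty.ext_of_isTriangulatedClosed₃ _ _
    (HomotopyCategory.mappingCone_triangleh_distinguished φ)
    (IsKInjective.rightOrthogonal K) (IsKInjective.rightOrthogonal L)

end cone

variable {A : Type u} [CommRing A]

theorem isKInjective_Tl (l : List A) (J : DRing.Cx A) [J.IsKInjective] :
    (Tl l J).IsKInjective := by
  induction l with
  | nil => exact (inferInstance : J.IsKInjective)
  | cons f l ih =>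
    have := ih
    exact isKInjective_mappingCone (Psi f (Tl l J))

variable (f : A) (K E : DRing.Cx A)

theorem smul_Q_homCxMap_Lhat :
    f • Q.map (DRing.homCxMap K (Lhat f E)) =
      𝟙 (Q.obj (DRing.homCx K (mappingCone (nPhi f E)))) := by
  have h := homCxQ_map_eq_of_homotopy K _ _ (mapSelfHomotopyZero (nPhi f E))
  rw [map_nPhi_self] at h
  change Q.map (DRing.homCxMap K (f • Lhat f E - 𝟙 _)) = Q.map (DRing.homCxMap K 0) at h
  rw [homCxMap_sub, homCxMap_smul, homCxMap_id, homCxMap_zero, Functor.map_sub,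
    Functor.map_smul, CategoryTheory.Functor.map_id, Functor.map_zero, sub_eq_zero] at h
  exact h

instance isIso_smul_homCx_cone :
    IsIso (f • 𝟙 (Q.obj (DRing.homCx K (mappingCone (nPhi f E))))) := by
  refine ⟨Q.map (DRing.homCxMap K (Lhat f E)), ?_, ?_⟩
  · rw [Linear.smul_comp, Category.id_comp, smul_Q_homCxMap_Lhat]
  · rw [Linear.comp_smul, Category.comp_id, smul_Q_homCxMap_Lhat]

theorem homCx_η_comp_bijective (J : Ideal A) (hf : f ∈ J) (Y : Dual.D A)
    (hY : DRing.IsDerivedComplete J Y) :
    Function.Bijective (fun g : Q.obj (DRing.homCx K (T f E)) ⟶ Y =>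
      Q.map (DRing.homCxMap K (η f E)) ≫ g) := by
  have hS := shortExact_homCx₂ (sc f E) (splitting f E) K
  have hT := triangleOfSES_distinguished hS
  have : IsIso (f • 𝟙 (triangleOfSES hS).obj₃) := isIso_smul_homCx_cone f K E
  constructor
  · intro g₁ g₂ h
    simp only at h
    have h0 : Q.map (DRing.homCxMap K (η f E)) ≫ (g₁ - g₂) = 0 := by
      rw [Preadditive.comp_sub, h, sub_self]
    obtain ⟨g', hg'⟩ := Triangle.yoneda_exact₂ _ hT (g₁ - g₂) h0
    rw [hom_eq_zero_direct f J hf _ Y hY g', comp_zero] at hg'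
    exact sub_eq_zero.mp hg'
  · intro m
    have hT' := inv_rot_of_distTriang _ hT
    obtain ⟨g, hg⟩ := Triangle.yoneda_exact₂ _ hT' m
      (hom_shift_eq_zero_direct f J hf _ Y hY (-1) _)
    exact ⟨g, hg.symm⟩

theorem homCx_ηl_comp_bijective (J : Ideal A) (l : List A) (hl : ∀ g ∈ l, g ∈ J) (Y : Dual.D A)
    (hY : DRing.IsDerivedComplete J Y) :
    Function.Bijective (fun g : Q.obj (DRing.homCx K (Tl l E)) ⟶ Y =>
      Q.map (DRing.homCxMap K (ηl l E)) ≫ g) := by
  induction l with
  | nil =>
    have : (fun g : Q.obj (DRing.homCx K (Tl [] E)) ⟶ Y =>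
        Q.map (DRing.homCxMap K (ηl [] E)) ≫ g) = id := by
      funext g
      change Q.map (DRing.homCxMap K (𝟙 E)) ≫ g = g
      rw [homCxMap_id, CategoryTheory.Functor.map_id, Category.id_comp]
    rw [this]
    exact Function.bijective_id
  | cons f l ih =>
    have h1 := ih (fun g hg => hl g (List.mem_cons_of_mem _ hg))
    have h2 := homCx_η_comp_bijective f K (Tl l E) J (hl f (List.mem_cons_self)) Y hY
    have : (fun g : Q.obj (DRing.homCx K (Tl (f :: l) E)) ⟶ Y =>
        Q.map (DRing.homCxMap K (ηl (f :: l) E)) ≫ g) =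
        (fun g : Q.obj (DRing.homCx K (Tl l E)) ⟶ Y => Q.map (DRing.homCxMap K (ηl l E)) ≫ g) ∘
          (fun g : Q.obj (DRing.homCx K (T f (Tl l E))) ⟶ Y =>
            Q.map (DRing.homCxMap K (η f (Tl l E))) ≫ g) := by
      funext g
      change Q.map (DRing.homCxMap K (ηl l E ≫ η f (Tl l E))) ≫ g = _
      rw [homCxMap_comp, Functor.map_comp, Category.assoc]
      rfl
    rw [this]
    exact h1.comp h2

/-- A universal arrow to a derived complete object is the derived completion, compatibly with
the unit. -/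
lemma exists_iso_of_universal (I : Ideal A) [DRing.HasDerivedCompletion I]
    (K Y : Dual.D A) (u : K ⟶ Y) (hY : DRing.IsDerivedComplete I Y)
    (hu : ∀ Y' : Dual.D A, DRing.IsDerivedComplete I Y' →
      Function.Bijective (fun g : Y ⟶ Y' => u ≫ g)) :
    ∃ a : ((DRing.derivedCompletion I).obj K).obj ≅ Y,
      DRing.toDerivedCompletion I K ≫ a.hom = u := by
  have hC := ((DRing.derivedCompletion I).obj K).property
  obtain ⟨a, ha⟩ := (unit_comp_bijective I K Y hY).2 u
  obtain ⟨b, hb⟩ := (hu _ hC).2 (DRing.toDerivedCompletion I K)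
  simp only at ha hb
  refine ⟨⟨a, b, ?_, ?_⟩, ha⟩
  · apply (unit_comp_bijective I K _ hC).1
    simp only
    rw [reassoc_of% ha, hb, Category.comp_id]
  · apply (hu Y hY).1
    simp only
    rw [reassoc_of% hb, ha, Category.comp_id]

lemma bijective_iso_comp {C : Type*} [Category C] {X X' Y : C} (e : X ≅ X') :
    Function.Bijective (fun g : X' ⟶ Y => e.hom ≫ g) := by
  constructor
  · intro g₁ g₂ h
    exact (cancel_epi e.hom).mp h
  · intro g
    exact ⟨e.inv ≫ g, by simp⟩

theorem rhom_completion (I : Ideal A) (hI : I.FG) [DRing.HasDerivedCompletion I]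
    (K : DRing.Cx A) [DRing.HasRHomCx K] (L : Dual.D A) :
    DRing.IsDerivedComplete I ((DRing.RHomCx K).obj ((DRing.derivedCompletion I).obj L).obj) ∧
      ∀ E : Dual.D A, DRing.IsDerivedComplete I E →
        Function.Bijective
          (fun φ : (DRing.RHomCx K).obj ((DRing.derivedCompletion I).obj L).obj ⟶ E =>
            (DRing.RHomCx K).map (DRing.toDerivedCompletion I L) ≫ φ) := by
  obtain ⟨s, hs⟩ := hI
  obtain ⟨J, j, hJ, hj⟩ := Helper5.KInj.exists_kinjective_resolution (Q.objPreimage L)
  let eL : L ≅ Q.obj J := (Q.objObjPreimageIso L).symm ≪≫ asIso (Q.map j)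
  let l := s.toList
  have hl : ∀ g ∈ l, g ∈ I := by
    intro g hg
    rw [← hs]
    exact Ideal.subset_span (Finset.mem_toList.mp hg)
  have := isKInjective_Tl l J
  have hM : DRing.IsDerivedComplete I (Q.obj (Tl l J)) := by
    rw [idc_Q_iff]
    intro g hg n
    rw [← hs] at hg
    exact DC_of_mem_span (s := (s : Set A))
      (fun x hx => DC_homology_Tl J l x (Finset.mem_toList.mpr hx) n) hg
  obtain ⟨a, ha⟩ := exists_iso_of_universal I L (Q.obj (Tl l J)) (eL.hom ≫ Q.map (ηl l J)) hM
    (by
      intro Y' hY'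
      have h1 := ηl_comp_bijective' J I l hl Y' hY'
      have h2 := bijective_iso_comp (Y := Y') eL
      have : (fun g : Q.obj (Tl l J) ⟶ Y' => (eL.hom ≫ Q.map (ηl l J)) ≫ g) =
          (fun g : Q.obj J ⟶ Y' => eL.hom ≫ g) ∘
            (fun g : Q.obj (Tl l J) ⟶ Y' => Q.map (ηl l J) ≫ g) := by
        funext g
        simp
      rw [this]
      exact h2.comp h1)
  let α := (DRing.homCxQ K).totalRightDerivedUnit DerivedCategory.Q
    (HomologicalComplex.quasiIso (ModuleCat.{u} A) (ComplexShape.up ℤ))
  have h1 : IsIso (α.app J) := isIso_unit_of_isKInjective K J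
  have h2 : IsIso (α.app (Tl l J)) := isIso_unit_of_isKInjective K (Tl l J)
  constructor
  · exact isDerivedComplete_of_iso I ((DRing.RHomCx K).mapIso a ≪≫ rhomIso K (Tl l J)).symm
      (idc_homCx I K _ hM)
  · intro E hE
    have hnat : (DRing.RHomCx K).map (Q.map (ηl l J)) =
        inv (α.app J) ≫ Q.map (DRing.homCxMap K (ηl l J)) ≫ α.app (Tl l J) := by
      rw [IsIso.eq_inv_comp]
      exact (α.naturality (ηl l J)).symm
    have hu : DRing.toDerivedCompletion I L = (eL.hom ≫ Q.map (ηl l J)) ≫ a.inv := by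
      rw [← ha, Category.assoc, Iso.hom_inv_id, Category.comp_id]
    let e1 : (DRing.RHomCx K).obj L ≅ Q.obj (DRing.homCx K J) :=
      (DRing.RHomCx K).mapIso eL ≪≫ (asIso (α.app J)).symm
    let e2 : Q.obj (DRing.homCx K (Tl l J)) ≅
        (DRing.RHomCx K).obj ((DRing.derivedCompletion I).obj L).obj :=
      (@asIso _ _ _ _ (α.app (Tl l J)) h2) ≪≫ (DRing.RHomCx K).mapIso a.symm
    have hb1 := bijective_iso_comp (Y := E) e1
    have hb2 := bijective_iso_comp (Y := E) e2
    have hb3 := homCx_ηl_comp_bijective K J I l hl E hE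
    have : (fun φ : (DRing.RHomCx K).obj ((DRing.derivedCompletion I).obj L).obj ⟶ E =>
        (DRing.RHomCx K).map (DRing.toDerivedCompletion I L) ≫ φ) =
        (fun g => e1.hom ≫ g) ∘
          (fun g : Q.obj (DRing.homCx K (Tl l J)) ⟶ E =>
            Q.map (DRing.homCxMap K (ηl l J)) ≫ g) ∘ (fun g => e2.hom ≫ g) := by
      funext φ
      simp only [Function.comp_apply]
      rw [hu, Functor.map_comp, Functor.map_comp, hnat]
      simp [e1, e2]
      rfl
    rw [this]
    exact hb1.comp (hb3.comp hb2)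

end Helper5.RHomK
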