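import Mathlib
import Groth.Prelude.Def_DRing2

set_option autoImplicit false
universe u
open CategoryTheory CategoryTheory.Limits

namespace Helper5.RHomK

variable {A : Type u} [CommRing A]

/-- the dual complex: `D(P)^n = Hom(P^{-n}, A)`, `d g = (-1)^(n+1) g ∘ d` -/
noncomputable def dualCx (P : DRing.Cx A) : DRing.Cx A where
  X n := ModuleCat.of A (Module.Dual A (P.X (-n)))
  d n m := ModuleCat.ofHom (((m.negOnePow : ℤˣ) : ℤ) • (P.d (-m) (-n)).hom.dualMap)
  shape n m h := by
    have : P.d (-m) (-n) = 0 := P.shape _ _ (by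
      intro h'
      apply h
      change n + 1 = m
      have : -m + 1 = -n := h'
      omega)
    rw [this]
    ext
    simp
  d_comp_d' n m k _ _ := by
    ext g : 2
    have h := P.d_comp_d (-k) (-m) (-n)
    have h' : (P.d (-m) (-n)).hom ∘ₗ (P.d (-k) (-m)).hom = 0 := by
      rw [← ModuleCat.hom_comp, h]
      rfl
    simp only [ModuleCat.hom_comp, ModuleCat.hom_ofHom, LinearMap.coe_comp, Function.comp_apply,
      LinearMap.smul_apply, map_zsmul, ModuleCat.hom_zero, LinearMap.zero_apply]
    rw [smul_smul]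
    have : (P.d (-k) (-m)).hom.dualMap ((P.d (-m) (-n)).hom.dualMap g) = 0 := by
      ext x
      change g ((P.d (-m) (-n)).hom ((P.d (-k) (-m)).hom x)) = 0
      have := LinearMap.congr_fun h' x
      rw [LinearMap.comp_apply] at this
      rw [this, LinearMap.zero_apply, map_zero]
    rw [this, smul_zero]

lemma dualCx_d_apply (P : DRing.Cx A) (n m : ℤ) (g : Module.Dual A (P.X (-n))) (x : P.X (-m)) :
    (show Module.Dual A (P.X (-m)) from ((dualCx P).d n m).hom g) x =
      ((m.negOnePow : ℤˣ) : ℤ) • g ((P.d (-m) (-n)).hom x) := rfl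

theorem vanishesOutside_dualCx (P : DRing.Cx A) (a b : ℤ) (h : DRing.VanishesOutside P a b) :
    DRing.VanishesOutside (dualCx P) (-b) (-a) := by
  intro i hi
  have hz : IsZero (P.X (-i)) := h (-i) (by omega)
  haveI : Subsingleton (P.X (-i)) := ModuleCat.subsingleton_of_isZero hz
  haveI : Subsingleton (Module.Dual A (P.X (-i))) :=
    ⟨fun f g => LinearMap.ext fun x => by rw [Subsingleton.elim x 0, map_zero, map_zero]⟩
  exact ModuleCat.isZero_of_subsingleton (ModuleCat.of A (Module.Dual A (P.X (-i))))

theorem termwiseFiniteProjective_dualCx (P : DRing.Cx A) (h : DRing.TermwiseFiniteProjective P) :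
    DRing.TermwiseFiniteProjective (dualCx P) := by
  intro i
  haveI := (h (-i)).1
  haveI := (h (-i)).2
  exact ⟨Module.dual_finite, Module.dual_projective⟩

/-- the cast `P^n → P^{- -n}` -/
noncomputable def castNN (P : DRing.Cx A) (n : ℤ) : P.X n →ₗ[A] P.X (- -n) :=
  (P.XIsoOfEq (neg_neg n).symm).hom.hom

lemma castNN_d (P : DRing.Cx A) (n m : ℤ) (x : P.X n) :
    (P.d (- -n) (- -m)).hom (castNN P n x) = castNN P m ((P.d n m).hom x) := by
  have h1 : (P.XIsoOfEq (neg_neg n).symm).hom ≫ P.d (- -n) (- -m) = P.d n (- -m) :=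
    P.XIsoOfEq_hom_comp_d _ _
  have h2 : P.d n m ≫ (P.XIsoOfEq (neg_neg m).symm).hom = P.d n (- -m) :=
    P.d_comp_XIsoOfEq_hom _ _
  have h3 := congrArg (fun f => f.hom x) (h1.trans h2.symm)
  exact h3

lemma bijective_castNN (P : DRing.Cx A) (n : ℤ) : Function.Bijective (castNN P n) :=
  (ConcreteCategory.isIso_iff_bijective (P.XIsoOfEq (neg_neg n).symm).hom).1 inferInstance

/-- the biduality map, degreewise -/
noncomputable def bidualLin (P : DRing.Cx A) (n : ℤ) :
    P.X n →ₗ[A] Module.Dual A (Module.Dual A (P.X (- -n))) :=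
  ((n.negOnePow : ℤˣ) : ℤ) • (Module.Dual.eval A (P.X (- -n)) ∘ₗ castNN P n)

lemma bidualLin_apply (P : DRing.Cx A) (n : ℤ) (x : P.X n) (g : Module.Dual A (P.X (- -n))) :
    bidualLin P n x g = ((n.negOnePow : ℤˣ) : ℤ) • g (castNN P n x) := rfl

/-- the biduality map `P ⟶ D(D(P))` -/
noncomputable def bidual (P : DRing.Cx A) : P ⟶ dualCx (dualCx P) where
  f n := ModuleCat.ofHom (bidualLin P n)
  comm' n m _ := by
    ext x : 2
    apply LinearMap.ext
    intro (g : Module.Dual A (P.X (- -m)))
    change (show Module.Dual A ((dualCx P).X (-m)) from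
        ((dualCx (dualCx P)).d n m).hom (bidualLin P n x)) g =
      bidualLin P m ((P.d n m).hom x) g
    have key : (show Module.Dual A (P.X (- -n)) from ((dualCx P).d (-m) (-n)).hom g)
        (castNN P n x) =
        (((-n).negOnePow : ℤˣ) : ℤ) • g ((P.d (- -n) (- -m)).hom (castNN P n x)) :=
      dualCx_d_apply P (-m) (-n) g (castNN P n x)
    rw [dualCx_d_apply (dualCx P) n m (bidualLin P n x) g]
    change ((m.negOnePow : ℤˣ) : ℤ) • (((n.negOnePow : ℤˣ) : ℤ) •
      (show Module.Dual A (P.X (- -n)) from ((dualCx P).d (-m) (-n)).hom g) (castNN P n x)) =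
      ((m.negOnePow : ℤˣ) : ℤ) • g (castNN P m ((P.d n m).hom x))
    rw [key, castNN_d, Int.negOnePow_neg, smul_smul, smul_smul, mul_assoc, ← Units.val_mul,
      Int.units_mul_self, Units.val_one, mul_one]

theorem isIso_bidual (P : DRing.Cx A) (h : DRing.TermwiseFiniteProjective P) :
    IsIso (bidual P) := by
  haveI : ∀ n, IsIso ((bidual P).f n) := by
    intro n
    rw [ConcreteCategory.isIso_iff_bijective]
    haveI : Module.Finite A (P.X (- -n)) := by
      have := (h n).1
      rw [neg_neg]
      exact this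
    haveI : Module.Projective A (P.X (- -n)) := by
      have := (h n).2
      rw [neg_neg]
      exact this
    have hb : Function.Bijective (Module.Dual.eval A (P.X (- -n)) ∘ₗ castNN P n) :=
      (Module.bijective_dual_eval A (P.X (- -n))).comp (bijective_castNN P n)
    change Function.Bijective (bidualLin P n)
    rcases Int.units_eq_one_or n.negOnePow with hs | hs
    · simp only [bidualLin, hs, Units.val_one, one_smul]
      exact hb
    · simp only [bidualLin, hs, Units.val_neg, Units.val_one, neg_smul, one_smul]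
      exact ⟨fun x y hxy => hb.1 (neg_injective hxy),
        fun y => by
          obtain ⟨x, hx⟩ := hb.2 (-y)
          exact ⟨x, by
            change -((Module.Dual.eval A (P.X (- -n)) ∘ₗ castNN P n) x) = y
            rw [hx]
            exact neg_neg y⟩⟩
  exact HomologicalComplex.Hom.isIso_of_components _

end Helper5.RHomK
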