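import Mathlib
import Groth.Prelude.Def_DRing4
import Groth.Agent.Lib.Helper5.RHomK.DualCx

set_option autoImplicit false
universe u
open CategoryTheory CategoryTheory.Limits CochainComplex CochainComplex.HomComplex

namespace Helper5.RHomK

variable {A : Type u} [CommRing A]

/-- the unit complex `A[0]` -/
noncomputable abbrev UA (A : Type u) [CommRing A] : DRing.Cx A :=
  (CochainComplex.singleFunctor (ModuleCat.{u} A) 0).obj (ModuleCat.of A A)

example : UA A = (HomologicalComplex.single (ModuleCat.{u} A) (ComplexShape.up ℤ) 0).obj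
    (ModuleCat.of A A) := rfl

/-- cochains to `A[0]` are linear forms -/
noncomputable def toUAEquiv (P : DRing.Cx A) (n : ℤ) :
    Cochain P (UA A) n ≃ₗ[A] Module.Dual A (P.X (-n)) where
  toFun z := (Cochain.toSingleEquiv (neg_add_cancel n) z).hom
  invFun g := (Cochain.toSingleEquiv (neg_add_cancel n)).symm (ModuleCat.ofHom g)
  left_inv z := by
    change (Cochain.toSingleEquiv (neg_add_cancel n)).symm
      (ModuleCat.ofHom (Cochain.toSingleEquiv (neg_add_cancel n) z).hom) = z
    rw [ModuleCat.ofHom_hom, AddEquiv.symm_apply_apply]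
  right_inv g := by
    change ((Cochain.toSingleEquiv (neg_add_cancel n))
      ((Cochain.toSingleEquiv (neg_add_cancel n)).symm (ModuleCat.ofHom g))).hom = g
    rw [AddEquiv.apply_symm_apply]
    rfl
  map_add' z z' := by
    rw [map_add]
    rfl
  map_smul' a z := by
    apply LinearMap.ext
    intro x
    simp [Cochain.toSingleEquiv]

lemma toUAEquiv_toSingleMk (P : DRing.Cx A) (n : ℤ) (f : P.X (-n) ⟶ ModuleCat.of A A) :
    toUAEquiv P n (Cochain.toSingleMk f (neg_add_cancel n)) = f.hom := by
  change (Cochain.toSingleEquiv (neg_add_cancel n) (Cochain.toSingleMk f (neg_add_cancel n))).hom = _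
  rw [Cochain.toSingleEquiv_toSingleMk]

/-- `Hom•(P, A[0]) ≅ D(P)` -/
noncomputable def homCxUAIso (P : DRing.Cx A) : DRing.homCx P (UA A) ≅ dualCx P :=
  HomologicalComplex.Hom.isoOfComponents (fun n => (toUAEquiv P n).toModuleIso) (by
    intro n m _
    ext (z : Cochain P (UA A) n) : 2
    obtain ⟨f, rfl⟩ := Cochain.toSingleMk_surjective z (-n) (neg_add_cancel n)
    change ((dualCx P).d n m).hom (toUAEquiv P n (Cochain.toSingleMk f (neg_add_cancel n))) =
      toUAEquiv P m (δ n m (Cochain.toSingleMk f (neg_add_cancel n)))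
    rw [Cochain.δ_toSingleMk f (neg_add_cancel n) m (-m) (neg_add_cancel m), Units.smul_def,
      map_zsmul, toUAEquiv_toSingleMk, toUAEquiv_toSingleMk]
    rfl)

end Helper5.RHomK
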