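import Mathlib
import Groth.Agent.Lib.Helper5.RHomK.Basic
import Groth.Agent.Lib.Helper5.RHomK.QisFirst
import Groth.Agent.Lib.Helper5.RHomK.DualHom
import Groth.Agent.Lib.Helper5.HomCx.GoodPerf

set_option autoImplicit false
universe u
open CategoryTheory CategoryTheory.Limits CochainComplex CochainComplex.HomComplex

attribute [local instance] HasDerivedCategory.standard

namespace Helper5.RHomK

open Groth.Agent.Lib.Helper5.HomCx Groth.Agent.Lib.Helper5.DTenLib

variable {A : Type u} [CommRing A]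

/-- `RHom(E, X)` is computed by `Hom•(P, X)` for a K-projective `P` representing `E` -/
theorem nonempty_rhom_iso_of_kproj (E P : DRing.Cx A) [P.IsKProjective]
    (e : DRing.toD P ≅ DRing.toD E) [DRing.HasRHomCx E] (X : DRing.Cx A) :
    Nonempty ((DRing.RHomCx E).obj (DRing.toD X) ≅ DRing.toD (DRing.homCx P X)) := by
  obtain ⟨u, hu⟩ := exists_Q_map_eq P E e.hom
  have hqu : QuasiIso u := by
    rw [← DerivedCategory.isIso_Q_map_iff_quasiIso, hu]
    infer_instance
  obtain ⟨I, ι, hI, hι⟩ := hasKInjRes_moduleCat X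
  haveI : IsIso (DerivedCategory.Q.map ι) := by
    rw [DerivedCategory.isIso_Q_map_iff_quasiIso]
    exact hι
  haveI : IsIso (DerivedCategory.Q.map (homCxPre u I)) := by
    rw [DerivedCategory.isIso_Q_map_iff_quasiIso]
    exact quasiIso_homCxPre I u hqu
  haveI : IsIso (DerivedCategory.Q.map (DRing.homCxMap P ι)) := by
    rw [DerivedCategory.isIso_Q_map_iff_quasiIso]
    exact quasiIso_homCxMap P ι hι
  exact ⟨(DRing.RHomCx E).mapIso (asIso (DerivedCategory.Q.map ι)) ≪≫ rhomIso E I ≪≫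
    asIso (DerivedCategory.Q.map (homCxPre u I)) ≪≫
    (asIso (DerivedCategory.Q.map (DRing.homCxMap P ι))).symm⟩

/-- `A[0]` in `D(A)` -/
noncomputable def inDIso (A : Type u) [CommRing A] : Dual.inD A A ≅ DRing.toD (UA A) :=
  (DerivedCategory.singleFunctorIsoCompQ (ModuleCat.{u} A) 0).app (ModuleCat.of A A)

/-- S6963 -/
theorem perfect_duality (K : Dual.D A) (hK : DRing.IsPerfect A K)
    (E : DRing.Cx A) (eK : DRing.toD E ≅ K) [DRing.HasRHomCx E] :
    DRing.IsPerfect A ((DRing.RHomCx E).obj (Dual.inD A A)) ∧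
      ∀ (E' : DRing.Cx A) (_ : DRing.toD E' ≅ (DRing.RHomCx E).obj (Dual.inD A A))
        [DRing.HasRHomCx E'], Nonempty ((DRing.RHomCx E').obj (Dual.inD A A) ≅ K) := by
  obtain ⟨P, a, b, hab, hP, ⟨eP⟩⟩ := hK
  haveI : P.IsKProjective := isKProjective_of_vanishesAbove P b (fun i hi => hab i (Or.inr hi))
    (fun i => (hP i).2)
  obtain ⟨e1⟩ := nonempty_rhom_iso_of_kproj E P (eP ≪≫ eK.symm) (UA A)
  -- `RHom(E, A) ≅ D(P)`
  let eD : (DRing.RHomCx E).obj (Dual.inD A A) ≅ DRing.toD (dualCx P) :=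
    (DRing.RHomCx E).mapIso (inDIso A) ≪≫ e1 ≪≫ DerivedCategory.Q.mapIso (homCxUAIso P)
  have hD1 := vanishesOutside_dualCx P a b hab
  have hD2 := termwiseFiniteProjective_dualCx P hP
  refine ⟨⟨dualCx P, -b, -a, hD1, hD2, ⟨eD.symm⟩⟩, ?_⟩
  intro E' eK' _
  haveI : (dualCx P).IsKProjective := isKProjective_of_vanishesAbove (dualCx P) (-a)
    (fun i hi => hD1 i (Or.inr hi)) (fun i => (hD2 i).2)
  obtain ⟨e2⟩ := nonempty_rhom_iso_of_kproj E' (dualCx P) (eD.symm ≪≫ eK'.symm) (UA A)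
  haveI := isIso_bidual P hP
  exact ⟨(DRing.RHomCx E').mapIso (inDIso A) ≪≫ e2 ≪≫
    DerivedCategory.Q.mapIso (homCxUAIso (dualCx P)) ≪≫
    (asIso (DerivedCategory.Q.map (bidual P))).symm ≪≫ eP⟩

end Helper5.RHomK
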